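import Mathlib
import Groth.Agent.H70.AdicFree.FinsuppAR

/-!
# A limit of a flat tower over a Noetherian ring is flat (Stacks 0912), abstract form

`A` is a Noetherian ring, `J` an ideal, `N` an `A`-module with a decreasing filtration `F n`
containing `J ^ n • ⊤`, separated and complete for `F`, and "approximately flat": every finite
system of relations which holds modulo `F m` is trivial modulo `F m`, with coefficient relations
holding modulo `J ^ m`.  Then `N` is flat over `A`.
-/

set_option autoImplicit false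
universe u

open Submodule

namespace Groth.Agent.H70.FlatLim

section Pi

variable {A : Type u} [CommRing A] (J : Ideal A)

theorem apply_mem_of_mem_smul_top {k : ℕ} {u : Fin k → A}
    (hu : u ∈ (J • ⊤ : Submodule A (Fin k → A))) (j : Fin k) : u j ∈ J := by
  refine Submodule.smul_induction_on hu ?_ ?_
  · intro r hr v _
    simp only [Pi.smul_apply, smul_eq_mul]
    exact J.mul_mem_right _ hr
  · intro v w hv hw
    simp only [Pi.add_apply]
    exact J.add_mem hv hw

theorem mem_smul_top_of_forall_apply_mem {k : ℕ} {u : Fin k → A} (hu : ∀ j, u j ∈ J) :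
    u ∈ (J • ⊤ : Submodule A (Fin k → A)) := by
  classical
  have : u = ∑ j, u j • (Pi.single j (1 : A) : Fin k → A) := by
    ext i
    simp [Finset.sum_apply, Pi.single_apply]
  rw [this]
  exact Submodule.sum_mem _ fun j _ => Submodule.smul_mem_smul (hu j) mem_top

/-- The linear map `A^k → A^l` given by a matrix. -/
noncomputable def matMap {l k : ℕ} (a : Fin l → Fin k → A) : (Fin k → A) →ₗ[A] (Fin l → A) :=
  LinearMap.pi fun i => ∑ j, a i j • LinearMap.proj j

@[simp] theorem matMap_apply {l k : ℕ} (a : Fin l → Fin k → A) (v : Fin k → A) (i : Fin l) :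
    matMap a v i = ∑ j, a i j * v j := by
  simp [matMap, LinearMap.pi_apply, LinearMap.sum_apply]

end Pi

section Tower

variable {A : Type u} [CommRing A] (J : Ideal A) (N : Type u) [AddCommGroup N] [Module A N]
  (F : ℕ → Submodule A N)

/-- A separated complete approximately flat tower. -/
structure Tower : Prop where
  anti : Antitone F
  smul_le : ∀ n, (J ^ n • ⊤ : Submodule A N) ≤ F n
  haus : ∀ v : N, (∀ n, v ∈ F n) → v = 0
  complete : ∀ u : ℕ → N, (∀ n, u (n + 1) - u n ∈ F n) → ∃ v, ∀ n, v - u n ∈ F n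
  approx : ∀ (m l k : ℕ) (f : Fin l → Fin k → A) (y : Fin k → N),
    (∀ i, ∑ j, f i j • y j ∈ F m) →
    ∃ (t : ℕ) (a : Fin k → Fin t → A) (w : Fin t → N),
      (∀ j, y j - ∑ s, a j s • w s ∈ F m) ∧ ∀ i s, ∑ j, f i j * a j s ∈ J ^ m

variable {J N F}

theorem Tower.lemmaG [IsNoetherianRing A] (T : Tower J N F) {l k t : ℕ}
    (a : Fin l → Fin k → A) (e : Fin t → Fin k → A)
    (he : LinearMap.ker (matMap a) = Submodule.span A (Set.range e)) :
    ∃ c : ℕ, ∀ (n : ℕ) (y : Fin k → N), (∀ i, ∑ j, a i j • y j ∈ F (c + n)) →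
      ∃ w : Fin t → N, ∀ j, y j - ∑ s, e s j • w s ∈ F n := by
  obtain ⟨c, hc⟩ := AdicFree.exists_isAR (I := J) (matMap a)
  refine ⟨c, fun n y hy => ?_⟩
  obtain ⟨t', a', w', h1, h2⟩ := T.approx (c + n) l k a y hy
  have hcol : ∀ s' : Fin t', ∃ d : Fin k → A, d ∈ (J ^ n • ⊤ : Submodule A (Fin k → A)) ∧
      ∃ cc : Fin t → A, ∑ s, cc s • e s = (fun j => a' j s') - d := by
    intro s'
    have hv : matMap a (fun j => a' j s') ∈
        (J ^ (c + n) • ⊤ : Submodule A (Fin l → A)) ⊓ LinearMap.range (matMap a) := by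
      refine ⟨mem_smul_top_of_forall_apply_mem _ fun i => ?_, ⟨_, rfl⟩⟩
      rw [matMap_apply]
      exact h2 i s'
    have hv' := hc n hv
    rw [← Submodule.map_top, ← Submodule.map_smul''] at hv'
    obtain ⟨d, hd, hdv⟩ := hv'
    refine ⟨d, hd, ?_⟩
    have hk : (fun j => a' j s') - d ∈ LinearMap.ker (matMap a) := by
      rw [LinearMap.mem_ker, map_sub, hdv, sub_self]
    rw [he] at hk
    exact (Submodule.mem_span_range_iff_exists_fun A).mp hk
  choose d hd cc hcc using hcol
  refine ⟨fun s => ∑ s', cc s' s • w' s', fun j => ?_⟩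
  have hkey : ∑ s, e s j • ∑ s', cc s' s • w' s' =
      ∑ s', a' j s' • w' s' - ∑ s', d s' j • w' s' := by
    have h3 : ∀ s', ∑ s, cc s' s * e s j = a' j s' - d s' j := by
      intro s'
      have := congrFun (hcc s') j
      simpa [Finset.sum_apply] using this
    simp_rw [Finset.smul_sum, smul_smul]
    rw [Finset.sum_comm, ← Finset.sum_sub_distrib]
    refine Finset.sum_congr rfl fun s' _ => ?_
    rw [← sub_smul, ← h3 s', Finset.sum_smul]
    refine Finset.sum_congr rfl fun s _ => ?_
    rw [mul_comm]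
  rw [hkey]
  have : y j - (∑ s', a' j s' • w' s' - ∑ s', d s' j • w' s') =
      (y j - ∑ s', a' j s' • w' s') + ∑ s', d s' j • w' s' := by abel
  rw [this]
  refine add_mem (T.anti (Nat.le_add_left n c) (h1 j)) (sum_mem fun s' _ => ?_)
  exact T.smul_le n (Submodule.smul_mem_smul (apply_mem_of_mem_smul_top _ (hd s') j) mem_top)

/-- **Stacks 0912, abstract form**: a separated complete approximately flat tower over a
Noetherian ring has flat limit. -/
theorem Tower.flat [IsNoetherianRing A] (T : Tower J N F) : Module.Flat A N := by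
  apply Module.Flat.of_forall_isTrivialRelation
  intro l f x hfx
  let f' : Fin 1 → Fin l → A := fun _ => f
  obtain ⟨k, g, hg⟩ := Submodule.fg_iff_exists_fin_generating_family.mp
    (IsNoetherian.noetherian (LinearMap.ker (matMap f')))
  obtain ⟨c₁, h₁⟩ := T.lemmaG f' g hg.symm
  have part1 : ∀ n, ∃ w : Fin k → N, ∀ i, x i - ∑ s, g s i • w s ∈ F n := by
    intro n
    apply h₁ n x
    intro i
    simp only [f']
    rw [hfx]
    exact zero_mem _
  let a' : Fin l → Fin k → A := fun i j => g j i
  obtain ⟨t, e, he⟩ := Submodule.fg_iff_exists_fin_generating_family.mp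
    (IsNoetherian.noetherian (LinearMap.ker (matMap a')))
  obtain ⟨c₂, h₂⟩ := T.lemmaG a' e he.symm
  have hek : ∀ s i, ∑ j, g j i * e s j = 0 := by
    intro s i
    have h : e s ∈ LinearMap.ker (matMap a') := by
      rw [← he]
      exact subset_span ⟨s, rfl⟩
    have h' := congrFun (LinearMap.mem_ker.mp h) i
    simpa [a'] using h'
  have step : ∀ n (z : Fin k → N), (∀ i, x i - ∑ j, g j i • z j ∈ F (c₂ + n)) →
      ∃ z' : Fin k → N, (∀ i, x i - ∑ j, g j i • z' j ∈ F (c₂ + (n + 1))) ∧
        ∀ j, z' j - z j ∈ F n := by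
    intro n z hz
    obtain ⟨y', hy'⟩ := part1 (c₂ + (n + 1))
    have hδ : ∀ i, ∑ j, a' i j • (y' j - z j) ∈ F (c₂ + n) := by
      intro i
      have : ∑ j, a' i j • (y' j - z j) =
          (x i - ∑ j, g j i • z j) - (x i - ∑ j, g j i • y' j) := by
        simp only [a', smul_sub, Finset.sum_sub_distrib]
        abel
      rw [this]
      exact sub_mem (hz i) (T.anti (by omega) (hy' i))
    obtain ⟨w, hw⟩ := h₂ n (fun j => y' j - z j) hδ
    refine ⟨fun j => y' j - ∑ s, e s j • w s, ?_, ?_⟩
    · intro i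
      have h0 : ∑ j, g j i • ∑ s, e s j • w s = 0 := by
        simp_rw [Finset.smul_sum, smul_smul]
        rw [Finset.sum_comm]
        simp_rw [← Finset.sum_smul, hek, zero_smul, Finset.sum_const_zero]
      have : x i - ∑ j, g j i • (y' j - ∑ s, e s j • w s) = x i - ∑ j, g j i • y' j := by
        simp only [smul_sub, Finset.sum_sub_distrib, h0, sub_zero]
      rw [this]
      exact hy' i
    · intro j
      have : y' j - ∑ s, e s j • w s - z j = (y' j - z j) - ∑ s, e s j • w s := by abel
      rw [this]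
      exact hw j
  obtain ⟨z0, hz0⟩ := part1 (c₂ + 0)
  let P : ℕ → (Fin k → N) → Prop := fun n z => ∀ i, x i - ∑ j, g j i • z j ∈ F (c₂ + n)
  let zseq : (n : ℕ) → {z : Fin k → N // P n z} := fun n =>
    Nat.rec (motive := fun n => {z : Fin k → N // P n z}) ⟨z0, hz0⟩
      (fun n z => ⟨Classical.choose (step n z.1 z.2), (Classical.choose_spec (step n z.1 z.2)).1⟩) n
  have hzs : ∀ n j, (zseq (n + 1)).1 j - (zseq n).1 j ∈ F n := fun n j =>
    (Classical.choose_spec (step n (zseq n).1 (zseq n).2)).2 j
  choose v hv using fun j => T.complete (fun n => (zseq n).1 j) (fun n => hzs n j)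
  refine ⟨k, fun i j => g j i, v, ?_, ?_⟩
  · intro i
    have h0 : x i - ∑ j, g j i • v j = 0 := by
      apply T.haus
      intro n
      have : x i - ∑ j, g j i • v j =
          (x i - ∑ j, g j i • (zseq n).1 j) - ∑ j, g j i • (v j - (zseq n).1 j) := by
        simp only [smul_sub, Finset.sum_sub_distrib]
        abel
      rw [this]
      exact sub_mem (T.anti (Nat.le_add_left n c₂) ((zseq n).2 i))
        (sum_mem fun j _ => (F n).smul_mem _ (hv j n))
    exact sub_eq_zero.mp h0
  · intro j
    have h : g j ∈ LinearMap.ker (matMap f') := by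
      rw [← hg]
      exact subset_span ⟨j, rfl⟩
    have h' := congrFun (LinearMap.mem_ker.mp h) 0
    simpa [f'] using h'

end Tower

end Groth.Agent.H70.FlatLim
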