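import Mathlib

/-!
# Matrix form of the equational criterion of flatness (tuple language)
-/

set_option autoImplicit false

namespace Groth.Agent.H70.FlatLim

variable {R : Type*} {M : Type*} [CommRing R] [AddCommGroup M] [Module R M]

/-- Matrix form of the equational criterion: finitely many simultaneous relations
`∑ j, f i j • x j = 0` in a flat module are simultaneously trivial. -/
theorem exists_matrix_factorization [Module.Flat R M] {l k : ℕ} (f : Fin l → Fin k → R)
    (x : Fin k → M) (h : ∀ i, ∑ j, f i j • x j = 0) :
    ∃ (t : ℕ) (a : Fin k → Fin t → R) (y : Fin t → M),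
      (∀ j, x j = ∑ s, a j s • y s) ∧ ∀ i s, ∑ j, f i j * a j s = 0 := by
  classical
  let F : (Fin l →₀ R) →ₗ[R] (Fin k →₀ R) :=
    Finsupp.linearCombination R (fun i => Finsupp.equivFunOnFinite.symm (f i))
  let X : (Fin k →₀ R) →ₗ[R] M := Finsupp.linearCombination R x
  have hF : ∀ i, F (Finsupp.single i 1) = ∑ j, f i j • Finsupp.single j (1 : R) := by
    intro i
    simp only [F, Finsupp.linearCombination_single, one_smul]
    ext j
    simp [Finsupp.single_apply, Finset.sum_apply']
  have hXF : X ∘ₗ F = 0 := by
    apply Finsupp.lhom_ext'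
    intro i
    apply LinearMap.ext_ring
    simp only [LinearMap.coe_comp, Function.comp_apply, Finsupp.lsingle_apply, LinearMap.zero_apply,
      LinearMap.zero_comp]
    rw [hF i, map_sum]
    simp only [map_smul, X, Finsupp.linearCombination_single, one_smul]
    exact h i
  obtain ⟨t, a', y', hya, haF⟩ :=
    Module.Flat.exists_factorization_of_comp_eq_zero_of_free (f := F) (x := X) hXF
  refine ⟨t, fun j s => a' (Finsupp.single j 1) s, fun s => y' (Finsupp.single s 1), ?_, ?_⟩
  · intro j
    have h1 : x j = X (Finsupp.single j 1) := by simp [X]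
    have h2 : a' (Finsupp.single j 1) = ∑ s, a' (Finsupp.single j 1) s • Finsupp.single s (1 : R) := by
      ext s
      simp [Finsupp.single_apply, Finset.sum_apply']
    rw [h1, hya, LinearMap.comp_apply]
    conv_lhs => rw [h2]
    rw [map_sum]
    simp only [map_smul]
  · intro i s
    have h1 : a' (F (Finsupp.single i 1)) = 0 := by
      have := LinearMap.congr_fun haF (Finsupp.single i 1)
      simpa using this
    rw [hF i, map_sum] at h1
    simp only [map_smul] at h1
    have h2 := DFunLike.congr_fun h1 s
    simpa [Finsupp.finsetSum_apply] using h2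

end Groth.Agent.H70.FlatLim
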