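import Mathlib
import Groth.Agent.H2.Tor1

/-!
# Flatness of `M / I^m M` over `R / I^m` (Stacks 051C (1))
-/

set_option autoImplicit false
universe u
open scoped TensorProduct
open Function (Injective Surjective Exact)

namespace Groth.Agent.H70.FlatLim

open Groth.Agent.H2

variable {R : Type u} [CommRing R]

/-- If `M ⊗_R 𝔟 → M ⊗_R R'` is injective for every ideal `𝔟` of the `R`-algebra `R'`, then
`R' ⊗_R M` is flat over `R'`. -/
theorem flat_baseChange_of_lTensor_injective (R' : Type u) [CommRing R'] [Algebra R R']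
    (M : Type u) [AddCommGroup M] [Module R M]
    (h : ∀ 𝔟 : Ideal R', Injective (((Submodule.subtype 𝔟).restrictScalars R).lTensor M)) :
    Module.Flat R' (R' ⊗[R] M) := by
  rw [Module.Flat.iff_rTensor_injective']
  intro 𝔟
  let eK := TensorProduct.AlgebraTensorModule.cancelBaseChange R R' R' 𝔟 M
  let eF := TensorProduct.AlgebraTensorModule.cancelBaseChange R R' R' R' M
  have hcomm : ∀ x, eF ((𝔟.subtype).rTensor (R' ⊗[R] M) x) =
      (((Submodule.subtype 𝔟).restrictScalars R).rTensor M) (eK x) := by
    intro x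
    induction x using TensorProduct.induction_on with
    | zero => simp
    | tmul b y =>
      induction y using TensorProduct.induction_on with
      | zero => simp
      | tmul a m => simp [eK, eF]
      | add y z hy hz => simp only [TensorProduct.tmul_add, map_add, hy, hz]
    | add x y hx hy => simp only [map_add, hx, hy]
  have hinj : Injective (((Submodule.subtype 𝔟).restrictScalars R).rTensor M) :=
    (LinearMap.lTensor_inj_iff_rTensor_inj _ _).mp (h 𝔟)
  intro x y hxy
  apply eK.injective
  apply hinj
  rw [← hcomm, ← hcomm, hxy]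

variable (I : Ideal R) (M : Type u) [AddCommGroup M] [Module R M]

/-- Stacks 051C (1): if `I ⊗ M → M` is injective and `M/IM` is flat over `R/I`, then `M/I^m M` is
flat over `R/I^m` for every `m`. -/
theorem flat_quotient_pow
    [Module.Flat (R ⧸ I) (M ⧸ (I • ⊤ : Submodule R M))]
    (hT : Injective (I.subtype.rTensor M)) (m : ℕ) :
    Module.Flat (R ⧸ I ^ m) (M ⧸ (I ^ m • ⊤ : Submodule R M)) := by
  have hT' : Tor1Zero R (R ⧸ I) M := (tor1Zero_quotient_iff I).mpr hT
  haveI : Module.Flat (R ⧸ I) ((R ⧸ I) ⊗[R] M) :=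
    Module.Flat.of_linearEquiv (LinearEquiv.extendScalarsOfSurjective
      (Ideal.Quotient.mk_surjective (I := I)) (TensorProduct.quotTensorEquivQuotSMul M I))
  haveI : Module.Flat (R ⧸ I ^ m) ((R ⧸ I ^ m) ⊗[R] M) := by
    apply flat_baseChange_of_lTensor_injective
    intro Jbar
    have hkill : (I ^ m) • (⊤ : Submodule R ((R ⧸ I ^ m) ⧸ Jbar)) = ⊥ := by
      rw [eq_bot_iff, Submodule.smul_le]
      intro a ha x _
      rw [Submodule.mem_bot, ← algebraMap_smul (R ⧸ I ^ m) a x]
      have : algebraMap R (R ⧸ I ^ m) a = 0 := by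
        rw [Ideal.Quotient.algebraMap_eq, Ideal.Quotient.eq_zero_iff_mem]
        exact ha
      rw [this, zero_smul]
    have h'' : Tor1Zero R ((R ⧸ I ^ m) ⧸ Jbar) M :=
      tor1Zero_of_pow_smul_eq_bot I hT' m _ hkill
    exact lTensor_injective_of_tor1Zero ((Submodule.subtype Jbar).restrictScalars R)
      ((Submodule.mkQ Jbar).restrictScalars R) (Submodule.injective_subtype Jbar)
      (LinearMap.exact_subtype_mkQ Jbar) (Submodule.mkQ_surjective Jbar) h''
  exact Module.Flat.of_linearEquiv (LinearEquiv.extendScalarsOfSurjective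
    (Ideal.Quotient.mk_surjective (I := I ^ m)) (TensorProduct.quotTensorEquivQuotSMul M (I ^ m))).symm

end Groth.Agent.H70.FlatLim
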