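import Mathlib
import Groth.Agent.H20.ComplNoeth2
import Groth.Agent.H20.AdicQuot
import Groth.Agent.H70.FlatLim.Abstract
import Groth.Agent.H70.FlatLim.EqCrit
import Groth.Agent.H70.FlatLim.Quot

/-!
# Flatness of the adic completion of a module (Stacks 0AGW)
-/

set_option autoImplicit false
universe u
open scoped TensorProduct
open Function (Injective Surjective Exact)

namespace Groth.Agent.H70.FlatLim

variable {R : Type u} [CommRing R] (I : Ideal R) (M : Type u) [AddCommGroup M] [Module R M]

/-- The kernel of the `n`-th evaluation, as a submodule over the completed ring. -/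
def evalKer (n : ℕ) : Submodule (AdicCompletion I R) (AdicCompletion I M) where
  carrier := {x | x.val n = 0}
  add_mem' := by
    intro x y hx hy
    simp only [Set.mem_setOf_eq] at hx hy ⊢
    rw [AdicCompletion.val_add_apply, hx, hy, add_zero]
  zero_mem' := rfl
  smul_mem' := by
    intro r x hx
    simp only [Set.mem_setOf_eq] at hx ⊢
    rw [AdicCompletion.smul_eval, hx, smul_zero]

variable {I M}

theorem mem_evalKer {n : ℕ} {x : AdicCompletion I M} : x ∈ evalKer I M n ↔ x.val n = 0 := Iff.rfl

theorem val_sum_smul {k : ℕ} (n : ℕ) (a : Fin k → AdicCompletion I R)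
    (y : Fin k → AdicCompletion I M) :
    (∑ j, a j • y j).val n = ∑ j, AdicCompletion.evalₐ I n (a j) • (y j).val n := by
  rw [AdicCompletion.val_sum_apply]
  refine Finset.sum_congr rfl fun j _ => ?_
  rw [AdicCompletion.smul_eval, AdicCompletion.val_smul_eq_evalₐ_smul]

theorem tower (hI : I.FG) [Module.Flat (R ⧸ I) (M ⧸ (I • ⊤ : Submodule R M))]
    (hT : Injective (I.subtype.rTensor M)) :
    Tower (I.map (algebraMap R (AdicCompletion I R))) (AdicCompletion I M) (evalKer I M) where
  anti := by
    intro m n hmn x hx
    rw [mem_evalKer] at hx ⊢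
    rw [← x.2 hmn, hx, map_zero]
  smul_le := by
    intro n
    rw [Submodule.smul_le]
    intro r hr x _
    rw [mem_evalKer, AdicCompletion.smul_eval, AdicCompletion.val_smul_eq_evalₐ_smul]
    have : AdicCompletion.evalₐ I n r = 0 := by
      rw [← Ideal.map_pow, ← Groth.Agent.H20.ker_evalₐ_eq_map I hI n] at hr
      exact hr
    rw [this, zero_smul]
  haus := by
    intro v hv
    apply AdicCompletion.ext
    intro n
    exact hv n
  complete := by
    intro u hu
    have hcau : ∀ m n, m ≤ n → (u n).val m = (u m).val m := by
      intro m n hmn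
      induction n, hmn using Nat.le_induction with
      | base => rfl
      | succ n hmn ih =>
        have h1 : (u (n + 1) - u n).val n = 0 := hu n
        have h2 : (u (n + 1) - u n).val m = 0 := by
          rw [← (u (n + 1) - u n).2 hmn, h1, map_zero]
        rw [AdicCompletion.val_sub_apply, sub_eq_zero] at h2
        rw [h2, ih]
    refine ⟨⟨fun n => (u n).val n, ?_⟩, fun n => ?_⟩
    · intro m n hmn
      rw [(u n).2 hmn, hcau m n hmn]
    · rw [mem_evalKer, AdicCompletion.val_sub_apply]
      exact sub_self _
  approx := by
    intro m l k f y hy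
    haveI := flat_quotient_pow I M hT m
    have h0 : ∀ i, ∑ j, AdicCompletion.evalₐ I m (f i j) • (y j).val m = 0 := by
      intro i
      rw [← val_sum_smul]
      exact hy i
    obtain ⟨t, abar, wbar, h1, h2⟩ := exists_matrix_factorization
      (fun i j => AdicCompletion.evalₐ I m (f i j)) (fun j => (y j).val m) h0
    choose a ha using fun j s => AdicCompletion.surjective_evalₐ I m (abar j s)
    choose w hw using fun s => AdicCompletion.eval_surjective I M m (wbar s)
    refine ⟨t, a, w, fun j => ?_, fun i s => ?_⟩
    · rw [mem_evalKer, AdicCompletion.val_sub_apply, val_sum_smul, h1 j, sub_eq_zero]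
      refine Finset.sum_congr rfl fun s _ => ?_
      rw [ha, ← hw s]
      rfl
    · rw [← Ideal.map_pow, ← Groth.Agent.H20.ker_evalₐ_eq_map I hI m, RingHom.mem_ker]
      simp only [map_sum, map_mul, RingHom.coe_coe, ha]
      exact h2 i s

/-- **Stacks 0AGW**: if `I` is finitely generated, `R/I` Noetherian, `I ⊗ M → M` injective and
`M/IM` flat over `R/I`, then the completion of `M` is flat over the completion of `R`. -/
theorem flat_adicCompletion (hI : I.FG) [IsNoetherianRing (R ⧸ I)]
    [Module.Flat (R ⧸ I) (M ⧸ (I • ⊤ : Submodule R M))]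
    (hT : Injective (I.subtype.rTensor M)) :
    Module.Flat (AdicCompletion I R) (AdicCompletion I M) := by
  haveI := Groth.Agent.H20.isNoetherianRing_adicCompletion_of_fg I hI
  exact (tower hI hT).flat

end Groth.Agent.H70.FlatLim
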